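import Mathlib.Algebra.Homology.DerivedCategory.ExactFunctor

/-!
# Induced functors on derived categories: composition and equivalences
-/

set_option autoImplicit false
set_option linter.style.haveILetI false
set_option linter.unusedSectionVars false
set_option backward.defeqAttrib.useBackward true
set_option backward.isDefEq.respectTransparency false
set_option backward.isDefEq.respectTransparency.types false

universe w₁ w₂ w₃ v₁ v₂ v₃ u₁ u₂ u₃

open CategoryTheory CategoryTheory.Limits DerivedCategory

noncomputable section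

namespace Groth.L17.DerQC

variable {C₁ : Type u₁} [Category.{v₁} C₁] [Abelian C₁] [HasDerivedCategory.{w₁} C₁]
  {C₂ : Type u₂} [Category.{v₂} C₂] [Abelian C₂] [HasDerivedCategory.{w₂} C₂]
  {C₃ : Type u₃} [Category.{v₃} C₃] [Abelian C₃] [HasDerivedCategory.{w₃} C₃]

/-- Composites of exact functors on derived categories. -/
def mapDerivedCompIso {F : C₁ ⥤ C₂} {G : C₂ ⥤ C₃} {H : C₁ ⥤ C₃} (e : F ⋙ G ≅ H)
    [F.Additive] [PreservesFiniteLimits F] [PreservesFiniteColimits F]
    [G.Additive] [PreservesFiniteLimits G] [PreservesFiniteColimits G]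
    [H.Additive] [PreservesFiniteLimits H] [PreservesFiniteColimits H] :
    F.mapDerivedCategory ⋙ G.mapDerivedCategory ≅ H.mapDerivedCategory :=
  let Fc := F.mapHomologicalComplex (ComplexShape.up ℤ)
  let Gc := G.mapHomologicalComplex (ComplexShape.up ℤ)
  letI : Localization.Lifting Q (HomologicalComplex.quasiIso C₁ (ComplexShape.up ℤ)) (Fc ⋙ Gc ⋙ Q)
      (F.mapDerivedCategory ⋙ G.mapDerivedCategory) :=
    ⟨(Functor.associator _ _ _).symm ≪≫ Functor.isoWhiskerRight F.mapDerivedCategoryFactors _ ≪≫
      Functor.associator _ _ _ ≪≫ Functor.isoWhiskerLeft Fc G.mapDerivedCategoryFactors⟩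
  Localization.liftNatIso Q (HomologicalComplex.quasiIso C₁ (ComplexShape.up ℤ)) (Fc ⋙ Gc ⋙ Q)
    (H.mapHomologicalComplex (ComplexShape.up ℤ) ⋙ Q) _ _
    ((Functor.associator _ _ _).symm ≪≫
      Functor.isoWhiskerRight (Functor.mapHomologicalComplexCompIso e (ComplexShape.up ℤ)) Q)

/-- The identity functor on derived categories. -/
def mapDerivedIdIso : (𝟭 C₁).mapDerivedCategory ≅ 𝟭 (DerivedCategory C₁) :=
  Localization.liftNatIso Q (HomologicalComplex.quasiIso C₁ (ComplexShape.up ℤ))
    ((𝟭 C₁).mapHomologicalComplex (ComplexShape.up ℤ) ⋙ Q) Q _ _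
    (Functor.isoWhiskerRight (Functor.mapHomologicalComplexIdIso C₁ (ComplexShape.up ℤ)) Q ≪≫ Q.leftUnitor)

/-- Equivalences of abelian categories induce equivalences of derived categories. -/
theorem isEquivalence_mapDerived (e : C₁ ≌ C₂) [e.functor.Additive] [PreservesFiniteLimits e.functor]
    [PreservesFiniteColimits e.functor] [e.inverse.Additive] [PreservesFiniteLimits e.inverse]
    [PreservesFiniteColimits e.inverse] : e.functor.mapDerivedCategory.IsEquivalence :=
  (CategoryTheory.Equivalence.mk e.functor.mapDerivedCategory e.inverse.mapDerivedCategory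
    (mapDerivedIdIso.symm ≪≫ (mapDerivedCompIso (H := 𝟭 C₁) e.unitIso.symm).symm)
    ((mapDerivedCompIso (H := 𝟭 C₂) e.counitIso) ≪≫ mapDerivedIdIso)).isEquivalence_functor

end Groth.L17.DerQC
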