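import Groth.Agent.L17.DerQC.Generic
import Groth.Agent.S11166
import Groth.Agent.L17.QCohGab.Groth
import Groth.Agent.L29.DCoh.Gen.PerfBuilt
import Groth.Agent.L29.DCoh.Gen.QAdj
import Groth.Agent.L29.DCoh.Cpt.Range
import Groth.Agent.L29.K.CohSupp

/-!
# The derived category of quasi-coherent modules on a Noetherian scheme
-/

set_option autoImplicit false
set_option linter.style.haveILetI false
set_option linter.unusedSectionVars false
set_option backward.defeqAttrib.useBackward true
set_option backward.isDefEq.respectTransparency false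
set_option backward.isDefEq.respectTransparency.types false

universe u

open CategoryTheory CategoryTheory.Limits CategoryTheory.Pretriangulated AlgebraicGeometry DerivedCategory

attribute [local instance] HasDerivedCategory.standard

noncomputable section

namespace Groth.L17.DerQC

/-- For a Noetherian scheme the derived category of quasi-coherent modules is `D_QCoh`. -/
theorem noetherian (X : Scheme.{u}) [IsNoetherian X]
    [ObjectProperty.ContainsZero (fun M : X.Modules => Coh.IsQCoh M)] [ObjectProperty.IsClosedUnderKernels (fun M : X.Modules => Coh.IsQCoh M)]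
    [ObjectProperty.IsClosedUnderCokernels (fun M : X.Modules => Coh.IsQCoh M)] [ObjectProperty.IsClosedUnderFiniteProducts (fun M : X.Modules => Coh.IsQCoh M)]
    [PreservesFiniteLimits (ObjectProperty.ι (fun M : X.Modules => Coh.IsQCoh M))] [PreservesFiniteColimits (ObjectProperty.ι (fun M : X.Modules => Coh.IsQCoh M))] :
    (ObjectProperty.ι (fun M : X.Modules => Coh.IsQCoh M)).mapDerivedCategory.Full ∧ (ObjectProperty.ι (fun M : X.Modules => Coh.IsQCoh M)).mapDerivedCategory.Faithful ∧
    ∀ K : DCoh.D X, DCoh.IsQCohD K ↔ ∃ M, Nonempty ((ObjectProperty.ι (fun M : X.Modules => Coh.IsQCoh M)).mapDerivedCategory.obj M ≅ K) := by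
  haveI := Groth.L00.Tensor.grothendieckAbelian_modules X
  haveI : IsGrothendieckAbelian.{u} (ObjectProperty.FullSubcategory fun M : X.Modules => Coh.IsQCoh M) :=
    Groth.L17.QCohGab.isGrothendieckAbelian X
  haveI : PreservesColimitsOfSize.{u, u} (ObjectProperty.ι (fun M : X.Modules => Coh.IsQCoh M)) :=
    Groth.L17.QCohGab.preservesColimits_ι X
  haveI : ∀ ι : Type u, PreservesColimitsOfShape (Discrete ι) (ObjectProperty.ι (fun M : X.Modules => Coh.IsQCoh M)) :=
    fun ι => inferInstance
  obtain ⟨P, hP, hgen⟩ := Groth.L29.DC.Gen.exists_perfect_generator X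
  have hPq : DCoh.IsQCohD P := Groth.L29.DC.PCQCoh.isQCohD_of_perfect hP
  obtain ⟨a, -, ha, -⟩ := Groth.L29.CohSupp.exists_bounds_of_perfect hP
  obtain ⟨hplus, hess⟩ := Groth.Agent.S11166.result X
  obtain ⟨P₀, hP₀, ⟨e₀⟩⟩ := hess P a ha hPq
  refine full_faithful_essImage _ hplus (DCoh.IsQCohD (X := X))
    (fun L i => ?_) (fun e h => Groth.L29.DC.isQCohD_of_iso e h)
    (fun T hT h₁ h₂ => Groth.L29.DC.Gen.isQCohD_third T hT h₁ h₂)
    (fun K _ hK => Groth.L29.DC.QCohColim.isQCohD_coproduct K hK)
    (fun n => Groth.L29.DC.Gen.isQCohD_shift hPq n)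
    (fun n => Groth.L29.DC.Gen.cpt_of_perfect (Groth.L29.DC.perfect_shift hP n))
    (fun L hL h => hgen L hL h)
    (fun n => Groth.L29.DC.Cpt.exists_hom_zero (Groth.L29.DC.perfect_shift hP n)) hP₀ e₀
  obtain ⟨e⟩ := Groth.L10.WSerreLib.homology_map_iso (ObjectProperty.ι (fun M : X.Modules => Coh.IsQCoh M)) L i
  exact Groth.L29.DC.isQCoh_of_iso' e.symm ((homologyFunctor _ i).obj L).property

end Groth.L17.DerQC
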