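import Groth.Agent.L17.AcyclicThen
import Groth.Agent.L17.PushQCoh
import Groth.Agent.L10.SiteRightDerived
import Groth.Agent.L21.Mod.Locality
import Groth.Agent.L29.DCoh.RpushAffine
import Groth.Agent.L29.DCoh.QCohOps
import Mathlib.CategoryTheory.Limits.Shapes.Biproducts
import Groth.Agent.L00.AlgQCoh
import Groth.Agent.L00.RDerLES
import Mathlib.AlgebraicGeometry.Morphisms.QuasiSeparated

/-!
# Injective quasi-coherent modules on schemes with affine diagonal are acyclic for direct images
-/

set_option autoImplicit false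
set_option linter.style.haveILetI false
set_option linter.unusedSectionVars false
set_option backward.isDefEq.respectTransparency false
set_option backward.isDefEq.respectTransparency.types false

universe u

open CategoryTheory CategoryTheory.Limits AlgebraicGeometry TopologicalSpace

noncomputable section

namespace Groth.L17.DerQC

attribute [local instance] Groth.L17.PushQCoh.additive_push

variable {X Y : Scheme.{u}}

/-- Affine intersections give an affine diagonal. -/
theorem isAffineHom_diagonal (hd : ∀ U V : X.Opens, IsAffineOpen U → IsAffineOpen V → IsAffineOpen (U ⊓ V)) :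
    IsAffineHom (pullback.diagonal (terminal.from X)) :=
  isAffineHom_diagonal_iff.2 fun _ _ V₁ _ V₂ _ h₁ h₂ => hd V₁ V₂ h₁ h₂

/-- A morphism from an affine scheme to one with affine diagonal is affine. -/
theorem isAffineHom_of_isAffine (hd : ∀ U V : Y.Opens, IsAffineOpen U → IsAffineOpen V → IsAffineOpen (U ⊓ V))
    [IsAffine X] (g : X ⟶ Y) : IsAffineHom g := by
  haveI : IsAffineHom (pullback.diagonal (terminal.from Y)) := isAffineHom_diagonal hd
  haveI : IsAffineHom (g ≫ terminal.from Y) := by
    rw [show g ≫ terminal.from Y = terminal.from X from Subsingleton.elim _ _]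
    infer_instance
  haveI : IsAffineHom (pullback.lift (𝟙 X) g (Category.id_comp _) : X ⟶ pullback (g ≫ terminal.from Y) (terminal.from Y)) :=
    MorphismProperty.of_isPullback (pullback_lift_diagonal_isPullback g (terminal.from Y))
      ‹IsAffineHom (pullback.diagonal (terminal.from Y))›
  haveI : IsAffineHom (pullback.snd (g ≫ terminal.from Y) (terminal.from Y)) :=
    MorphismProperty.pullback_snd _ _ ‹IsAffineHom (g ≫ terminal.from Y)›
  rw [← pullback.lift_snd (f := g ≫ terminal.from Y) (g := terminal.from Y) (𝟙 X) g (Category.id_comp _)]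
  exact MorphismProperty.comp_mem @IsAffineHom _ _ ‹_› ‹_›

/-- Higher direct images of pushforwards from affine morphisms over affine morphisms vanish. -/
theorem isZero_Rpush_push {U : Scheme.{u}} (j : U ⟶ X) [IsAffineHom j] [IsOpenImmersion j] (f : X ⟶ Y)
    [IsAffineHom (j ≫ f)] [HasInjectiveResolutions X.Modules] [HasInjectiveResolutions U.Modules]
    (G : U.Modules) (hG : Coh.IsQCoh G) (p : ℕ) (hp : 0 < p) :
    IsZero ((Coh.Rpush f p).obj ((Scheme.Modules.pushforward j).obj G)) := by
  letI := HasDerivedCategory.standard X.Modules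
  haveI := Groth.L00.Tensor.grothendieckAbelian_modules X
  haveI : PreservesFiniteLimits (Scheme.Modules.pushforward j) :=
    haveI : PreservesLimitsOfSize.{0, 0} (Scheme.Modules.pushforward j) :=
      (Scheme.Modules.pullbackPushforwardAdjunction j).rightAdjoint_preservesLimits
    inferInstance
  haveI : PreservesFiniteLimits (Scheme.Modules.pushforward f) :=
    haveI : PreservesLimitsOfSize.{0, 0} (Scheme.Modules.pushforward f) :=
      (Scheme.Modules.pullbackPushforwardAdjunction f).rightAdjoint_preservesLimits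
    inferInstance
  haveI : PreservesFiniteLimits (Scheme.Modules.restrictFunctor j) := by
    haveI : PreservesLimitsOfSize.{0, 0} (Scheme.Modules.restrictFunctor j) := inferInstance
    infer_instance
  haveI : (Scheme.Modules.restrictFunctor j).PreservesMonomorphisms :=
    preservesMonomorphisms_of_preservesLimitsOfShape _
  obtain ⟨e⟩ := Groth.L17.GrothSS.nonempty_rightDerived_comp_of_acyclic (Scheme.Modules.pushforward j)
    (Scheme.Modules.pushforward f)
    (fun Q hQ q hq => by
      obtain ⟨k, rfl⟩ : ∃ k, q = k + 1 := ⟨q - 1, by omega⟩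
      haveI := Injective.injective_of_adjoint (Scheme.Modules.restrictAdjunction j) Q
      exact (Scheme.Modules.pushforward f).isZero_rightDerived_obj_injective_succ k _)
    G (fun q hq => Groth.L29.DC.RpushQC.isZero_Rpush_affine j G hG q hq) p
  exact (Groth.L29.DC.RpushQC.isZero_Rpush_affine (j ≫ f) G hG p hp).of_iso
    (e.symm ≪≫ (Groth.L10.SiteCoh.rightDerivedCongr (Scheme.Modules.pushforwardComp j f) p).app G)

variable [CompactSpace X]
  (hdX : ∀ U V : X.Opens, IsAffineOpen U → IsAffineOpen V → IsAffineOpen (U ⊓ V))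
  (hdY : ∀ U V : Y.Opens, IsAffineOpen U → IsAffineOpen V → IsAffineOpen (U ⊓ V))
  [HasInjectiveResolutions X.Modules] (f : X ⟶ Y)

include hdX hdY in
/-- An injective quasi-coherent module is acyclic for direct images. -/
theorem isZero_Rpush_of_injective_qcoh
    (J : ObjectProperty.FullSubcategory fun M : X.Modules => Coh.IsQCoh M) [Injective J] (p : ℕ) (hp : 0 < p) :
    IsZero ((Coh.Rpush f p).obj J.obj) := by
  classical
  let T : Type u := X.affineOpens
  obtain ⟨t, ht⟩ := isCompact_univ.elim_finite_subcover (fun U : T => (U.1 : Set X)) (fun U => U.1.2) (fun x _ => by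
    obtain ⟨U, hU, hx, -⟩ := X.isBasis_affineOpens.exists_subset_of_mem_open (Set.mem_univ x) isOpen_univ
    obtain ⟨U, hU, rfl⟩ := hU
    exact Set.mem_iUnion.2 ⟨⟨U, hU⟩, hx⟩)
  let U : t → X.Opens := fun i => i.1.1
  have hU : iSup U = ⊤ := top_le_iff.1 fun x _ => by
    obtain ⟨i, hi, hx⟩ := Set.mem_iUnion₂.1 (ht (Set.mem_univ x))
    exact Opens.mem_iSup.2 ⟨⟨i, hi⟩, hx⟩
  haveI : ∀ i, IsAffine (U i : Scheme.{u}) := fun i => i.1.2
  haveI : ∀ i, IsAffineHom (U i).ι := fun i => isAffineHom_of_isAffine hdX _
  haveI : ∀ i, IsAffineHom ((U i).ι ≫ f) := fun i => isAffineHom_of_isAffine hdY _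
  haveI := J.property
  let G : ∀ i, (U i : Scheme.{u}).Modules := fun i => (Scheme.Modules.restrictFunctor (U i).ι).obj J.obj
  have hG : ∀ i, Coh.IsQCoh (G i) := fun i => Scheme.Modules.isQuasicoherent_restrictFunctor _ _
  let g : t → X.Modules := fun i => (Scheme.Modules.pushforward (U i).ι).obj (G i)
  have hgq : ∀ i, Coh.IsQCoh (g i) := fun i => by
    haveI := hG i
    haveI := Groth.L17.PushQCoh.hasInjectiveResolutions (U i : Scheme.{u})
    exact Groth.L29.DC.isQCoh_of_iso' ((Scheme.Modules.pushforward (U i).ι).rightDerivedZeroIsoSelf.app _)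
      (Groth.L17.PushQCoh.isQCoh_Rpush (U i).ι (G i) 0)
  let ι : J.obj ⟶ ⨁ g := biproduct.lift fun i => (Scheme.Modules.restrictAdjunction (U i).ι).unit.app J.obj
  haveI : Mono ι := Groth.L21.Mod.mono_of_restrict_opens U hU ι fun i => by
    let R := Scheme.Modules.restrictFunctor (U i).ι
    haveI : IsIso (R.map ((Scheme.Modules.restrictAdjunction (U i).ι).unit.app J.obj)) := by
      haveI : IsIso (R.map ((Scheme.Modules.restrictAdjunction (U i).ι).unit.app J.obj) ≫
          (Scheme.Modules.restrictAdjunction (U i).ι).counit.app (R.obj J.obj)) := by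
        simp only [R]
        erw [(Scheme.Modules.restrictAdjunction (U i).ι).left_triangle_components]
        infer_instance
      exact IsIso.of_isIso_comp_right _ ((Scheme.Modules.restrictAdjunction (U i).ι).counit.app (R.obj J.obj))
    haveI : Mono (R.map ι ≫ R.map (biproduct.π g i)) := by
      rw [← R.map_comp, biproduct.lift_π]
      infer_instance
    exact mono_of_mono (R.map ι) (R.map (biproduct.π g i))
  let B : ObjectProperty.FullSubcategory fun M : X.Modules => Coh.IsQCoh M :=
    ⟨⨁ g, Groth.L29.DC.isQCoh_of_iso' (biproduct.isoCoproduct g).symm (Groth.L00.AlgQCoh.isQCoh_sigma _ hgq)⟩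
  let ι' : J ⟶ B := ObjectProperty.homMk ι
  haveI : Mono ι' := (ObjectProperty.ι fun M : X.Modules => Coh.IsQCoh M).mono_of_mono_map
    (show Mono ι from inferInstance)
  obtain ⟨r, hr⟩ := Injective.factors (𝟙 J) ι'
  have hr' : ι ≫ r.hom = 𝟙 J.obj := congrArg (fun k => k.hom) hr
  let F := Coh.Rpush f p
  letI := HasDerivedCategory.standard X.Modules
  haveI : F.Additive := Groth.L00.RDerLES.additive _ _
  rw [IsZero.iff_id_eq_zero, ← F.map_id, ← hr', F.map_comp]
  have h0 : F.map (𝟙 (⨁ g)) = 0 := by
    rw [show 𝟙 (⨁ g) = ∑ i : t, biproduct.π g i ≫ biproduct.ι g i from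
      (IsBilimit.total (biproduct.isBilimit g)).symm, Functor.map_sum]
    refine Finset.sum_eq_zero fun i _ => ?_
    haveI := Groth.L17.PushQCoh.hasInjectiveResolutions (U i : Scheme.{u})
    rw [F.map_comp, (isZero_Rpush_push (U i).ι f (G i) (hG i) p hp).eq_of_tgt (F.map (biproduct.π g i)) 0, zero_comp]
  rw [← Category.id_comp r.hom, F.map_comp, h0, zero_comp, comp_zero]

end Groth.L17.DerQC
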