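import Groth.Agent.L17.DerQC.Generic
import Groth.Agent.Lead.ResD
import Groth.Agent.L17.QCohGab.Groth
import Groth.Agent.L29.DCoh.Gen.PerfBuilt
import Groth.Agent.L29.DCoh.Gen.QAdj
import Groth.Agent.L29.DCoh.Cpt.Range
import Mathlib.Algebra.Homology.DerivedCategory.Fractions

/-!
# The derived category of quasi-coherent modules on a scheme with affine diagonal
-/

set_option autoImplicit false
set_option linter.style.haveILetI false
set_option linter.unusedSectionVars false
set_option backward.defeqAttrib.useBackward true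
set_option backward.isDefEq.respectTransparency false
set_option backward.isDefEq.respectTransparency.types false

universe u

open CategoryTheory CategoryTheory.Limits CategoryTheory.Pretriangulated AlgebraicGeometry DerivedCategory

attribute [local instance] HasDerivedCategory.standard

noncomputable section

namespace Groth.L17.DerQC

open Groth.Lead.ResInj Groth.Lead.ResKD Groth.Lead.ResD
open scoped ZeroObject

variable {X : Scheme.{u}} [CompactSpace X]
  [ObjectProperty.ContainsZero (fun M : X.Modules => Coh.IsQCoh M)] [ObjectProperty.IsClosedUnderKernels (fun M : X.Modules => Coh.IsQCoh M)]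
  [ObjectProperty.IsClosedUnderCokernels (fun M : X.Modules => Coh.IsQCoh M)] [ObjectProperty.IsClosedUnderFiniteProducts (fun M : X.Modules => Coh.IsQCoh M)]
  [PreservesFiniteLimits (ObjectProperty.ι (fun M : X.Modules => Coh.IsQCoh M))] [PreservesFiniteColimits (ObjectProperty.ι (fun M : X.Modules => Coh.IsQCoh M))]

local notation "ιq" => ObjectProperty.ι (fun M : X.Modules => Coh.IsQCoh M)
local notation "cz" => ComplexShape.up ℤ
local notation "Q'" => (DerivedCategory.Q : CochainComplex (ObjectProperty.FullSubcategory fun M : X.Modules => Coh.IsQCoh M) ℤ ⥤ _)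

/-- Resolutions of bounded below complexes by quasi-coherent modules without higher extensions. -/
theorem exists_ri_res (hd : ∀ U : X.Opens, IsAffineOpen U → IsAffineHom U.ι)
    (K : CochainComplex (ObjectProperty.FullSubcategory fun M : X.Modules => Coh.IsQCoh M) ℤ) (b : ℤ) [K.IsStrictlyGE b] :
    ∃ (J : CochainComplex (ObjectProperty.FullSubcategory fun M : X.Modules => Coh.IsQCoh M) ℤ) (α : K ⟶ J),
      J.IsStrictlyGE b ∧ (∀ n, RI (J.X n).obj) ∧ QuasiIso α := by
  obtain ⟨J, α, h1, h2, -, h4⟩ := Groth.L10.ClassRes.exists_res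
    (fun Y : ObjectProperty.FullSubcategory (fun M : X.Modules => Coh.IsQCoh M) => RI Y.obj)
    (fun Y => by
      obtain ⟨T, i, hi, hT, hRI⟩ := exists_mono_ri hd Y.obj Y.property
      exact ⟨⟨T, hT⟩, (ιq).preimage i, hRI,
        (ιq).mono_of_mono_map (by rw [Functor.map_preimage]; exact hi)⟩)
    ⟨0, isZero_zero _, ri_of_isZero ((ιq).map_isZero (isZero_zero _))⟩ K b
  exact ⟨J, α, h1, h2, h4⟩

/-- Maps from bounded complexes into bounded below ones are computed in all modules. -/
theorem map_bijective_of_bq (hd : ∀ U : X.Opens, IsAffineOpen U → IsAffineHom U.ι)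
    {M : DerivedCategory (ObjectProperty.FullSubcategory fun M : X.Modules => Coh.IsQCoh M)}
    {M₀ : CochainComplex (ObjectProperty.FullSubcategory fun M : X.Modules => Coh.IsQCoh M) ℤ}
    (eM : M ≅ DerivedCategory.Q.obj M₀)
    (hM : ∃ p q : ℤ, ∀ i, (i < p ∨ q < i) → IsZero (M₀.X i))
    {N : DerivedCategory (ObjectProperty.FullSubcategory fun M : X.Modules => Coh.IsQCoh M)} (b : ℤ) (hN : N.IsGE b) :
    Function.Bijective fun f : M ⟶ N => (ιq).mapDerivedCategory.map f := by
  let G := (ιq).mapDerivedCategory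
  let Fc := (ιq).mapHomologicalComplex cz
  let eF := (ιq).mapDerivedCategoryFactors
  obtain ⟨N₀, hN₀, ⟨eN⟩⟩ := N.exists_iso_Q_obj_of_isGE b
  obtain ⟨J, α, hJ, hJI, hα⟩ := exists_ri_res hd N₀ b
  haveI : IsIso (DerivedCategory.Q.map α) := (DerivedCategory.isIso_Q_map_iff_quasiIso _ _).2 hα
  let eN' : N ≅ DerivedCategory.Q.obj J := eN ≪≫ asIso (DerivedCategory.Q.map α)
  haveI : CochainComplex.IsStrictlyGE (Fc.obj J) b := (CochainComplex.isStrictlyGE_iff _ _).2 fun i hi =>
    (ιq).map_isZero (J.isZero_of_isStrictlyGE b i hi)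
  have hbq : BQ X (Fc.obj M₀) := by
    obtain ⟨p, q, h⟩ := hM
    exact ⟨⟨p, q, fun i hi => (ιq).map_isZero (h i hi)⟩, fun i => (M₀.X i).property⟩
  have hnat : ∀ {K L : CochainComplex (ObjectProperty.FullSubcategory fun M : X.Modules => Coh.IsQCoh M) ℤ} (f : K ⟶ L),
      G.map (DerivedCategory.Q.map f) = eF.hom.app K ≫ DerivedCategory.Q.map (Fc.map f) ≫ eF.inv.app L := fun f => by
    have h := eF.hom.naturality f
    dsimp at h
    rw [← reassoc_of% h, Iso.hom_inv_id_app]
    exact (Category.comp_id _).symm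
  have hsurj : ∀ φ : G.obj (DerivedCategory.Q.obj M₀) ⟶ G.obj (DerivedCategory.Q.obj J),
      ∃ f, G.map (DerivedCategory.Q.map f) = φ := fun φ => by
    obtain ⟨g, hg⟩ := exists_chainMap (J := Fc.obj J) (a := b) hJI hbq (eF.inv.app M₀ ≫ φ ≫ eF.hom.app J)
    obtain ⟨f, rfl⟩ := Fc.map_surjective g
    refine ⟨f, ?_⟩
    rw [hnat, hg]
    simp only [Category.assoc, Iso.hom_inv_id_app_assoc, Iso.hom_inv_id_app]
    exact Category.comp_id φ
  have hinj : ∀ ψ : DerivedCategory.Q.obj M₀ ⟶ DerivedCategory.Q.obj J, G.map ψ = 0 → ψ = 0 := fun ψ h0 => by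
    obtain ⟨J', hJ', g, s, hs, rfl⟩ := left_fac_of_isStrictlyGE ψ b
    obtain ⟨J'', β, hJ'', hJI'', hβ⟩ := exists_ri_res hd J' b
    haveI : IsIso (DerivedCategory.Q.map β) := (DerivedCategory.isIso_Q_map_iff_quasiIso _ _).2 hβ
    haveI : CochainComplex.IsStrictlyGE (Fc.obj J'') b := (CochainComplex.isStrictlyGE_iff _ _).2 fun i hi =>
      (ιq).map_isZero (J''.isZero_of_isStrictlyGE b i hi)
    have h1 : G.map (DerivedCategory.Q.map (g ≫ β)) = 0 := by
      have h2 := congrArg (· ≫ G.map (DerivedCategory.Q.map s) ≫ G.map (DerivedCategory.Q.map β)) h0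
      simp only [Functor.map_comp, Category.assoc, zero_comp] at h2
      rw [← Category.assoc (G.map (inv _)), ← G.map_comp, IsIso.inv_hom_id, G.map_id] at h2
      rw [DerivedCategory.Q.map_comp, G.map_comp]
      simpa using h2
    rw [hnat] at h1
    have h3 : DerivedCategory.Q.map (Fc.map (g ≫ β)) = DerivedCategory.Q.map (0 : Fc.obj M₀ ⟶ Fc.obj J'') := by
      rw [Functor.map_zero]
      simpa using h1
    obtain ⟨H⟩ := nonempty_homotopy (J := Fc.obj J'') (a := b) hJI'' hbq h3
    have H' : Homotopy (g ≫ β) 0 :=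
      { hom := fun i j => (ιq).preimage (H.hom i j)
        zero := fun i j hij => (ιq).map_injective (by rw [Functor.map_preimage, H.zero i j hij, Functor.map_zero])
        comm := fun i => (ιq).map_injective (by
          have h := H.comm i
          simp only [Fc, Functor.mapHomologicalComplex_map_f] at h
          simp only [dNext_eq _ (show (ComplexShape.up ℤ).Rel i (i + 1) from rfl),
            prevD_eq _ (show (ComplexShape.up ℤ).Rel (i - 1) i by simp)] at h ⊢
          simp only [HomologicalComplex.zero_f, add_zero] at h ⊢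
          rw [Functor.map_add, Functor.map_comp (ιq) (M₀.d i (i + 1)), Functor.map_comp (ιq) _ (J''.d (i - 1) i),
            Functor.map_preimage, Functor.map_preimage]
          exact h) }
    have h4 := DerivedCategory.Q_map_eq_of_homotopy _ H'
    rw [Functor.map_zero, Functor.map_comp] at h4
    have h5 : DerivedCategory.Q.map g = 0 := by
      rw [← cancel_mono (DerivedCategory.Q.map β), zero_comp]; exact h4
    rw [h5, zero_comp]
  have hbij : Function.Bijective fun f : DerivedCategory.Q.obj M₀ ⟶ DerivedCategory.Q.obj J => G.map f := by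
    refine ⟨fun x y h => sub_eq_zero.1 (hinj _ (by rw [G.map_sub]; exact sub_eq_zero.2 h)), fun φ => ?_⟩
    obtain ⟨f, hf⟩ := hsurj φ
    exact ⟨_, hf⟩
  have e : (fun f : M ⟶ N => G.map f) = ((G.mapIso eM).homCongr (G.mapIso eN')).symm ∘
      (fun f : DerivedCategory.Q.obj M₀ ⟶ DerivedCategory.Q.obj J => G.map f) ∘ (eM.homCongr eN') := by
    funext φ
    simp [Iso.homCongr, ← Functor.map_comp]
  rw [e]
  exact (Equiv.bijective _).comp (hbij.comp (Equiv.bijective _))

/-- Bounded objects of `D_QCoh` have bounded quasi-coherent models. -/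
theorem exists_bounded_model (hd : ∀ U : X.Opens, IsAffineOpen U → IsAffineHom U.ι) {K : DCoh.D X}
    (hK : DCoh.IsQCohD K) (a b : ℤ) (ha : K.IsGE a) (hb : K.IsLE b) :
    ∃ M₀ : CochainComplex (ObjectProperty.FullSubcategory fun M : X.Modules => Coh.IsQCoh M) ℤ,
      M₀.IsStrictlyGE a ∧ M₀.IsStrictlyLE b ∧
      Nonempty ((ιq).mapDerivedCategory.obj (DerivedCategory.Q.obj M₀) ≅ K) := by
  obtain ⟨F, hFz, hFq, ⟨e⟩⟩ := exists_qcoh_rep hd a (b - (a - 1)).toNat K hK ha
    (TStructure.t.isLE_of_le K b _ (by omega))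
  let K₀ : CochainComplex (ObjectProperty.FullSubcategory fun M : X.Modules => Coh.IsQCoh M) ℤ :=
    { X := fun n => ⟨F.X n, hFq n⟩
      d := fun i j => (ιq).preimage (F.d i j)
      shape := fun i j h => (ιq).map_injective (by rw [Functor.map_preimage, Functor.map_zero]; exact F.shape i j h)
      d_comp_d' := fun i j k _ _ => (ιq).map_injective (by
        rw [Functor.map_comp, Functor.map_preimage, Functor.map_preimage, Functor.map_zero]; exact F.d_comp_d i j k) }
  haveI : K₀.IsStrictlyGE a := (CochainComplex.isStrictlyGE_iff _ _).2 fun i hi =>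
    IsZero.of_full_of_faithful_of_isZero (ιq) _ (hFz i hi)
  let eK : ((ιq).mapHomologicalComplex cz).obj K₀ ≅ F :=
    HomologicalComplex.Hom.isoOfComponents (fun n => Iso.refl _) (fun i j _ => by
      change 𝟙 _ ≫ F.d i j = (ιq).map (K₀.d i j) ≫ 𝟙 _
      simp only [K₀, Functor.map_preimage]
      exact (Category.id_comp _).trans (Category.comp_id _).symm)
  let eK' : (ιq).mapDerivedCategory.obj (DerivedCategory.Q.obj K₀) ≅ K :=
    (ιq).mapDerivedCategoryFactors.app K₀ ≪≫ DerivedCategory.Q.mapIso eK ≪≫ e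
  have hle : K₀.IsLE b := (DerivedCategory.isLE_Q_obj_iff K₀ b).1 ((DerivedCategory.isLE_iff _ _).2 fun i hi => by
    obtain ⟨h⟩ := Groth.L10.WSerreLib.homology_map_iso (ιq) (DerivedCategory.Q.obj K₀) i
    refine IsZero.of_full_of_faithful_of_isZero (ιq) _ ?_
    exact (((DerivedCategory.isLE_iff K b).1 hb i hi).of_iso ((DerivedCategory.homologyFunctor _ i).mapIso eK')).of_iso h.symm)
  haveI := hle
  haveI : IsIso (DerivedCategory.Q.map (K₀.ιTruncLE b)) :=
    (DerivedCategory.isIso_Q_map_iff_quasiIso _ _).2 inferInstance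
  exact ⟨K₀.truncLE b, inferInstance, inferInstance,
    ⟨(ιq).mapDerivedCategory.mapIso (asIso (DerivedCategory.Q.map (K₀.ιTruncLE b))) ≪≫ eK'⟩⟩

/-- For a quasi-compact scheme with affine diagonal the derived category of quasi-coherent modules is `D_QCoh`. -/
theorem affine_diagonal [QuasiSeparatedSpace X] (hd : ∀ U : X.Opens, IsAffineOpen U → IsAffineHom U.ι) :
    (ιq).mapDerivedCategory.Full ∧ (ιq).mapDerivedCategory.Faithful ∧
    ∀ K : DCoh.D X, DCoh.IsQCohD K ↔ ∃ M, Nonempty ((ιq).mapDerivedCategory.obj M ≅ K) := by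
  haveI := Groth.L00.Tensor.grothendieckAbelian_modules X
  haveI : IsGrothendieckAbelian.{u} (ObjectProperty.FullSubcategory fun M : X.Modules => Coh.IsQCoh M) :=
    Groth.L17.QCohGab.isGrothendieckAbelian X
  haveI : PreservesColimitsOfSize.{u, u} (ιq) := Groth.L17.QCohGab.preservesColimits_ι X
  haveI : ∀ ι : Type u, PreservesColimitsOfShape (Discrete ι) (ιq) := fun ι => inferInstance
  obtain ⟨P, hP, hgen⟩ := Groth.L29.DC.Gen.exists_perfect_generator X
  have hPq : DCoh.IsQCohD P := Groth.L29.DC.PCQCoh.isQCohD_of_perfect hP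
  obtain ⟨a, b, ha, hb⟩ := exists_cohBounds hP
  obtain ⟨M₀, hMa, hMb, ⟨e₀⟩⟩ := exists_bounded_model hd hPq a b ha hb
  refine full_faithful_essImage_of (P₀ := DerivedCategory.Q.obj M₀) (a₀ := a) _ (DCoh.IsQCohD (X := X))
    (fun L i => ?_) (fun e h => Groth.L29.DC.isQCohD_of_iso e h)
    (fun T hT h₁ h₂ => Groth.L29.DC.Gen.isQCohD_third T hT h₁ h₂)
    (fun K _ hK => Groth.L29.DC.QCohColim.isQCohD_coproduct K hK)
    (fun n => Groth.L29.DC.Gen.isQCohD_shift hPq n)
    (fun n => Groth.L29.DC.Gen.cpt_of_perfect (Groth.L29.DC.perfect_shift hP n))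
    (fun L hL h => hgen L hL h)
    (fun n => Groth.L29.DC.Cpt.exists_hom_zero (Groth.L29.DC.perfect_shift hP n))
    ((DerivedCategory.isGE_Q_obj_iff _ _).2 inferInstance) e₀
    (fun n N c hN => map_bijective_of_bq hd ((DerivedCategory.Q.commShiftIso n).app M₀).symm
      ⟨a - n, b - n, fun i hi => ?_⟩ c hN)
  · obtain ⟨e⟩ := Groth.L10.WSerreLib.homology_map_iso (ιq) L i
    exact Groth.L29.DC.isQCoh_of_iso' e.symm ((homologyFunctor _ i).obj L).property
  · rcases hi with hi | hi
    · exact M₀.isZero_of_isStrictlyGE a (i + n) (by omega)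
    · exact M₀.isZero_of_isStrictlyLE b (i + n) (by omega)

end Groth.L17.DerQC
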