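import Groth.Agent.L17.DerQC.Square
import Groth.Agent.L17.DerQC.AffDiag
import Groth.Agent.L17.QCohGab.Groth
import Groth.Agent.L29.DCoh.RpushAcyclic

/-!
# The derived direct image on quasi-coherent modules of schemes with affine diagonal
-/

set_option autoImplicit false
set_option linter.style.haveILetI false
set_option linter.unusedSectionVars false
set_option backward.defeqAttrib.useBackward true
set_option backward.isDefEq.respectTransparency false
set_option backward.isDefEq.respectTransparency.types false

universe u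

open CategoryTheory CategoryTheory.Limits AlgebraicGeometry DerivedCategory

attribute [local instance] HasDerivedCategory.standard

noncomputable section

namespace Groth.L17.DerQC

/-- The square of derived direct images on quasi-coherent and all modules. -/
theorem affDiag_square {X Y : Scheme.{u}} [CompactSpace ↥X] [CompactSpace ↥Y]
    (hdX : ∀ U V : X.Opens, IsAffineOpen U → IsAffineOpen V → IsAffineOpen (U ⊓ V))
    (hdY : ∀ U V : Y.Opens, IsAffineOpen U → IsAffineOpen V → IsAffineOpen (U ⊓ V))
    (f : X ⟶ Y) [DCoh.HasRpush f]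
    [ObjectProperty.ContainsZero (fun M : X.Modules => Coh.IsQCoh M)] [ObjectProperty.IsClosedUnderKernels (fun M : X.Modules => Coh.IsQCoh M)]
    [ObjectProperty.IsClosedUnderCokernels (fun M : X.Modules => Coh.IsQCoh M)] [ObjectProperty.IsClosedUnderFiniteProducts (fun M : X.Modules => Coh.IsQCoh M)]
    [PreservesFiniteLimits (ObjectProperty.ι (fun M : X.Modules => Coh.IsQCoh M))] [PreservesFiniteColimits (ObjectProperty.ι (fun M : X.Modules => Coh.IsQCoh M))]
    [ObjectProperty.ContainsZero (fun M : Y.Modules => Coh.IsQCoh M)] [ObjectProperty.IsClosedUnderKernels (fun M : Y.Modules => Coh.IsQCoh M)]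
    [ObjectProperty.IsClosedUnderCokernels (fun M : Y.Modules => Coh.IsQCoh M)] [ObjectProperty.IsClosedUnderFiniteProducts (fun M : Y.Modules => Coh.IsQCoh M)]
    [PreservesFiniteLimits (ObjectProperty.ι (fun M : Y.Modules => Coh.IsQCoh M))] [PreservesFiniteColimits (ObjectProperty.ι (fun M : Y.Modules => Coh.IsQCoh M))]
    (hf : ∀ M : X.Modules, Coh.IsQCoh M → Coh.IsQCoh ((Scheme.Modules.pushforward f).obj M))
    [(ObjectProperty.lift (fun M : Y.Modules => Coh.IsQCoh M) (ObjectProperty.ι (fun M : X.Modules => Coh.IsQCoh M) ⋙ Scheme.Modules.pushforward f) (fun M => hf M.obj M.property)).Additive]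
    [((ObjectProperty.lift (fun M : Y.Modules => Coh.IsQCoh M) (ObjectProperty.ι (fun M : X.Modules => Coh.IsQCoh M) ⋙ Scheme.Modules.pushforward f) (fun M => hf M.obj M.property)).mapHomotopyCategory (ComplexShape.up ℤ) ⋙ DerivedCategory.Qh).HasRightDerivedFunctor (HomotopyCategory.quasiIso (ObjectProperty.FullSubcategory (fun M : X.Modules => Coh.IsQCoh M)) (ComplexShape.up ℤ))] :
    Nonempty (((ObjectProperty.lift (fun M : Y.Modules => Coh.IsQCoh M) (ObjectProperty.ι (fun M : X.Modules => Coh.IsQCoh M) ⋙ Scheme.Modules.pushforward f) (fun M => hf M.obj M.property)).mapHomotopyCategory (ComplexShape.up ℤ) ⋙ DerivedCategory.Qh).totalRightDerived DerivedCategory.Qh (HomotopyCategory.quasiIso (ObjectProperty.FullSubcategory (fun M : X.Modules => Coh.IsQCoh M)) (ComplexShape.up ℤ)) ⋙ (ObjectProperty.ι (fun M : Y.Modules => Coh.IsQCoh M)).mapDerivedCategory ≅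
      (ObjectProperty.ι (fun M : X.Modules => Coh.IsQCoh M)).mapDerivedCategory ⋙ DCoh.Rpush f) := by
  haveI : IsGrothendieckAbelian.{u} (ObjectProperty.FullSubcategory fun M : X.Modules => Coh.IsQCoh M) :=
    Groth.L17.QCohGab.isGrothendieckAbelian X
  haveI := Groth.L17.PushQCoh.hasInjectiveResolutions X
  haveI := Groth.L17.PushQCoh.additive_push f
  haveI : QuasiSeparatedSpace ↥Y :=
    (quasiSeparatedSpace_iff_forall_affineOpens (X := Y)).2 fun U V => (hdY U.1 V.1 U.2 V.2).isCompact
  haveI : QuasiSeparatedSpace ↥X :=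
    (quasiSeparatedSpace_iff_forall_affineOpens (X := X)).2 fun U V => (hdX U.1 V.1 U.2 V.2).isCompact
  haveI : QuasiSeparated (terminal.from Y) := (quasiSeparatedSpace_iff_quasiSeparated Y).1 inferInstance
  haveI : QuasiCompact (f ≫ terminal.from Y) := by
    rw [show f ≫ terminal.from Y = terminal.from X from Subsingleton.elim _ _]
    infer_instance
  haveI : QuasiCompact f := QuasiCompact.of_comp f (terminal.from Y)
  let P := ObjectProperty.lift (fun M : Y.Modules => Coh.IsQCoh M)
    (ObjectProperty.ι (fun M : X.Modules => Coh.IsQCoh M) ⋙ Scheme.Modules.pushforward f) (fun M => hf M.obj M.property)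
  refine nonempty_iso_square (P := P) (F := Scheme.Modules.pushforward f) (Iso.refl _)
    ((P.mapHomotopyCategory (ComplexShape.up ℤ) ⋙ Qh).totalRightDerivedUnit Qh
      (HomotopyCategory.quasiIso _ (ComplexShape.up ℤ)))
    ((DCoh.pushKh f).totalRightDerivedUnit Qh (HomotopyCategory.quasiIso X.Modules (ComplexShape.up ℤ)))
    fun J hJ hinj => ?_
  refine Groth.L29.DC.RpushQC.isIso_unit_of_acyclic f _ (fun n => (J.X n).property) fun n i hi => ?_
  haveI := hinj n
  exact isZero_Rpush_of_injective_qcoh hdX hdY f (J.X n) i hi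

end Groth.L17.DerQC
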