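import Groth.Agent.L17.DerQC.Comp
import Groth.Agent.L17.QCohGab.Groth
import Groth.Agent.L17.FlatBase.CxTools
import Groth.Agent.L16.AffineBC.Pullback
import Mathlib.CategoryTheory.Adjunction.Restrict
import Groth.Prelude.Def_DCoh2

/-!
# Coherators and flat direct images
-/

set_option autoImplicit false
set_option linter.style.haveILetI false
set_option linter.unusedSectionVars false
set_option backward.defeqAttrib.useBackward true
set_option backward.isDefEq.respectTransparency false
set_option backward.isDefEq.respectTransparency.types false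

universe u

open CategoryTheory CategoryTheory.Limits AlgebraicGeometry DerivedCategory

attribute [local instance] HasDerivedCategory.standard

noncomputable section

namespace Groth.L17.DerQC

variable {X Y : Scheme.{u}} (f : X ⟶ Y)
  (hf : ∀ M : X.Modules, Coh.IsQCoh M → Coh.IsQCoh ((Scheme.Modules.pushforward f).obj M))

/-- The inverse image of quasi-coherent modules. -/
def qcPull : ObjectProperty.FullSubcategory (fun M : Y.Modules => Coh.IsQCoh M) ⥤
    ObjectProperty.FullSubcategory (fun M : X.Modules => Coh.IsQCoh M) :=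
  ObjectProperty.lift _ (ObjectProperty.ι _ ⋙ Scheme.Modules.pullback f)
    (fun G => haveI : Coh.IsQCoh G.obj := G.property; Groth.L16.AffineBC.isQCoh_pullback f G.obj)

/-- Inverse image is left adjoint to direct image on quasi-coherent modules. -/
def qcAdj : qcPull f ⊣ ObjectProperty.lift (fun M : Y.Modules => Coh.IsQCoh M)
    (ObjectProperty.ι (fun M : X.Modules => Coh.IsQCoh M) ⋙ Scheme.Modules.pushforward f)
      (fun M => hf M.obj M.property) :=
  (Scheme.Modules.pullbackPushforwardAdjunction f).restrictFullyFaithful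
    (ObjectProperty.fullyFaithfulι _) (ObjectProperty.fullyFaithfulι _)
    (ObjectProperty.liftCompιIso _ _ _).symm (ObjectProperty.liftCompιIso _ _ _).symm

variable (QX : X.Modules ⥤ ObjectProperty.FullSubcategory (fun M : X.Modules => Coh.IsQCoh M))
  (adjX : ObjectProperty.ι (fun M : X.Modules => Coh.IsQCoh M) ⊣ QX)
  (QY : Y.Modules ⥤ ObjectProperty.FullSubcategory (fun M : Y.Modules => Coh.IsQCoh M))
  (adjY : ObjectProperty.ι (fun M : Y.Modules => Coh.IsQCoh M) ⊣ QY)

/-- Coherators commute with direct images. -/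
def coheratorPushIso : Scheme.Modules.pushforward f ⋙ QY ≅ QX ⋙ ObjectProperty.lift (fun M : Y.Modules => Coh.IsQCoh M)
    (ObjectProperty.ι (fun M : X.Modules => Coh.IsQCoh M) ⋙ Scheme.Modules.pushforward f)
      (fun M => hf M.obj M.property) :=
  (adjY.comp (Scheme.Modules.pullbackPushforwardAdjunction f)).rightAdjointUniq
    (((qcAdj f hf).comp adjX).ofNatIsoLeft (ObjectProperty.liftCompιIso _ _ _))

end Groth.L17.DerQC

theorem Groth.L17.DerQC.coherator_push {X Y : Scheme.{u}} (f : X ⟶ Y)
    [Flat f] [DCoh.HasRpush f]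
    [ObjectProperty.ContainsZero (fun M : X.Modules => Coh.IsQCoh M)] [ObjectProperty.IsClosedUnderKernels (fun M : X.Modules => Coh.IsQCoh M)]
    [ObjectProperty.IsClosedUnderCokernels (fun M : X.Modules => Coh.IsQCoh M)] [ObjectProperty.IsClosedUnderFiniteProducts (fun M : X.Modules => Coh.IsQCoh M)]
    [PreservesFiniteLimits (ObjectProperty.ι (fun M : X.Modules => Coh.IsQCoh M))] [PreservesFiniteColimits (ObjectProperty.ι (fun M : X.Modules => Coh.IsQCoh M))]
    [ObjectProperty.ContainsZero (fun M : Y.Modules => Coh.IsQCoh M)] [ObjectProperty.IsClosedUnderKernels (fun M : Y.Modules => Coh.IsQCoh M)]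
    [ObjectProperty.IsClosedUnderCokernels (fun M : Y.Modules => Coh.IsQCoh M)] [ObjectProperty.IsClosedUnderFiniteProducts (fun M : Y.Modules => Coh.IsQCoh M)]
    [PreservesFiniteLimits (ObjectProperty.ι (fun M : Y.Modules => Coh.IsQCoh M))] [PreservesFiniteColimits (ObjectProperty.ι (fun M : Y.Modules => Coh.IsQCoh M))]
    (QX : X.Modules ⥤ ObjectProperty.FullSubcategory (fun M : X.Modules => Coh.IsQCoh M)) (adjX : ObjectProperty.ι (fun M : X.Modules => Coh.IsQCoh M) ⊣ QX)
    (QY : Y.Modules ⥤ ObjectProperty.FullSubcategory (fun M : Y.Modules => Coh.IsQCoh M)) (adjY : ObjectProperty.ι (fun M : Y.Modules => Coh.IsQCoh M) ⊣ QY)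
    [QX.Additive] [QY.Additive]
    [(QX.mapHomotopyCategory (ComplexShape.up ℤ) ⋙ DerivedCategory.Qh).HasRightDerivedFunctor (HomotopyCategory.quasiIso X.Modules (ComplexShape.up ℤ))] [(QY.mapHomotopyCategory (ComplexShape.up ℤ) ⋙ DerivedCategory.Qh).HasRightDerivedFunctor (HomotopyCategory.quasiIso Y.Modules (ComplexShape.up ℤ))]
    (hf : ∀ M : X.Modules, Coh.IsQCoh M → Coh.IsQCoh ((Scheme.Modules.pushforward f).obj M))
    [(ObjectProperty.lift (fun M : Y.Modules => Coh.IsQCoh M) (ObjectProperty.ι (fun M : X.Modules => Coh.IsQCoh M) ⋙ Scheme.Modules.pushforward f) (fun M => hf M.obj M.property)).Additive]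
    [((ObjectProperty.lift (fun M : Y.Modules => Coh.IsQCoh M) (ObjectProperty.ι (fun M : X.Modules => Coh.IsQCoh M) ⋙ Scheme.Modules.pushforward f) (fun M => hf M.obj M.property)).mapHomotopyCategory (ComplexShape.up ℤ) ⋙ DerivedCategory.Qh).HasRightDerivedFunctor (HomotopyCategory.quasiIso (ObjectProperty.FullSubcategory (fun M : X.Modules => Coh.IsQCoh M)) (ComplexShape.up ℤ))] :
    Nonempty (DCoh.Rpush f ⋙ (QY.mapHomotopyCategory (ComplexShape.up ℤ) ⋙ DerivedCategory.Qh).totalRightDerived DerivedCategory.Qh (HomotopyCategory.quasiIso Y.Modules (ComplexShape.up ℤ)) ≅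
      (QX.mapHomotopyCategory (ComplexShape.up ℤ) ⋙ DerivedCategory.Qh).totalRightDerived DerivedCategory.Qh (HomotopyCategory.quasiIso X.Modules (ComplexShape.up ℤ)) ⋙
        ((ObjectProperty.lift (fun M : Y.Modules => Coh.IsQCoh M) (ObjectProperty.ι (fun M : X.Modules => Coh.IsQCoh M) ⋙ Scheme.Modules.pushforward f) (fun M => hf M.obj M.property)).mapHomotopyCategory (ComplexShape.up ℤ) ⋙ DerivedCategory.Qh).totalRightDerived DerivedCategory.Qh (HomotopyCategory.quasiIso (ObjectProperty.FullSubcategory (fun M : X.Modules => Coh.IsQCoh M)) (ComplexShape.up ℤ))) := by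
  haveI : IsGrothendieckAbelian.{u} (ObjectProperty.FullSubcategory fun M : X.Modules => Coh.IsQCoh M) :=
    Groth.L17.QCohGab.isGrothendieckAbelian X
  haveI := Groth.L00.Tensor.grothendieckAbelian_modules X
  haveI := Groth.L00.Tensor.grothendieckAbelian_modules Y
  haveI := Groth.L17.CxTools.preservesFiniteLimits_pullback f
  haveI : PreservesFiniteColimits (Scheme.Modules.pullback f) :=
    haveI : PreservesColimitsOfSize.{0, 0} (Scheme.Modules.pullback f) :=
      (Scheme.Modules.pullbackPushforwardAdjunction f).leftAdjoint_preservesColimits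
    PreservesColimitsOfSize.preservesFiniteColimits _
  haveI : (Scheme.Modules.pullback f).Additive := Functor.additive_of_preserves_binary_products _
  haveI : (Scheme.Modules.pushforward f).Additive :=
    (Scheme.Modules.pullbackPushforwardAdjunction f).right_adjoint_additive
  exact Groth.L17.DerQC.nonempty_iso_comp (Groth.L17.DerQC.coheratorPushIso f hf QX adjX QY adjY)
    ((DCoh.pushKh f).totalRightDerivedUnit Qh (HomotopyCategory.quasiIso X.Modules (ComplexShape.up ℤ)))
    ((QY.mapHomotopyCategory (ComplexShape.up ℤ) ⋙ Qh).totalRightDerivedUnit Qh (HomotopyCategory.quasiIso _ (ComplexShape.up ℤ)))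
    ((QX.mapHomotopyCategory (ComplexShape.up ℤ) ⋙ Qh).totalRightDerivedUnit Qh (HomotopyCategory.quasiIso _ (ComplexShape.up ℤ)))
    ((Functor.mapHomotopyCategory (ObjectProperty.lift (fun M : Y.Modules => Coh.IsQCoh M) (ObjectProperty.ι (fun M : X.Modules => Coh.IsQCoh M) ⋙ Scheme.Modules.pushforward f) (fun M => hf M.obj M.property)) (ComplexShape.up ℤ) ⋙ Qh).totalRightDerivedUnit Qh (HomotopyCategory.quasiIso _ (ComplexShape.up ℤ)))
    (fun J _ => Groth.L10.KInjTransfer.isKInjective_map (Scheme.Modules.pullbackPushforwardAdjunction f) J)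
    (fun J _ => Groth.L10.KInjTransfer.isKInjective_map adjX J)
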