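import Groth.Agent.L10.KInjTransfer
import Groth.Agent.L10.KInjDerived
import Groth.Agent.L00.RDerLES

/-!
# Composites of right derived functors
-/

set_option autoImplicit false
set_option linter.style.haveILetI false
set_option linter.unusedSectionVars false
set_option backward.defeqAttrib.useBackward true
set_option backward.isDefEq.respectTransparency false
set_option backward.isDefEq.respectTransparency.types false

universe w₁ w₂ w₃ w₄ v₁ v₂ v₃ v₄ u₁ u₂ u₃ u₄

open CategoryTheory CategoryTheory.Limits DerivedCategory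

noncomputable section

namespace Groth.L17.DerQC

variable {A : Type u₁} [Category.{v₁} A] [Abelian A]
  {B : Type u₂} [Category.{v₂} B] [Abelian B]
  {B' : Type u₃} [Category.{v₃} B'] [Abelian B']
  {C : Type u₄} [Category.{v₄} C] [Abelian C]

local notation "cz" => ComplexShape.up ℤ

/-- Isomorphic composites of additive functors give isomorphic composites on homotopy categories. -/
def htpyCompIso {G : A ⥤ B} [G.Additive] {H : B ⥤ C} [H.Additive] {G' : A ⥤ B'} [G'.Additive]
    {H' : B' ⥤ C} [H'.Additive] (e : G ⋙ H ≅ G' ⋙ H') :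
    G.mapHomotopyCategory cz ⋙ H.mapHomotopyCategory cz ≅
      G'.mapHomotopyCategory cz ⋙ H'.mapHomotopyCategory cz :=
  NatIso.ofComponents (fun K => (HomotopyCategory.quotient C cz).mapIso
      (HomologicalComplex.Hom.isoOfComponents (fun i => e.app (K.as.X i))
        fun i j _ => (e.hom.naturality (K.as.d i j)).symm))
    fun {K L} f => by
      obtain ⟨f, rfl⟩ := (HomotopyCategory.quotient A cz).map_surjective f
      exact ((HomotopyCategory.quotient C cz).map_comp _ _).symm.trans
        ((congrArg _ (HomologicalComplex.hom_ext _ _ fun i => e.hom.naturality (f.f i))).trans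
          ((HomotopyCategory.quotient C cz).map_comp _ _))

variable [HasDerivedCategory.{w₁} A] [HasDerivedCategory.{w₂} B] [HasDerivedCategory.{w₃} B']
  [HasDerivedCategory.{w₄} C]
  [Groth.L10.KInjDerived.EnoughKInjectives A] [Groth.L10.KInjDerived.EnoughKInjectives B]
  [Groth.L10.KInjDerived.EnoughKInjectives B']

/-- The canonical transformation into the composite of derived functors. -/
def compUnit (G : A ⥤ B) [G.Additive] (H : B ⥤ C) [H.Additive]
    {RG : DerivedCategory A ⥤ DerivedCategory B} (α : G.mapHomotopyCategory cz ⋙ Qh ⟶ Qh ⋙ RG)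
    {RH : DerivedCategory B ⥤ DerivedCategory C} (β : H.mapHomotopyCategory cz ⋙ Qh ⟶ Qh ⋙ RH) :
    (G.mapHomotopyCategory cz ⋙ H.mapHomotopyCategory cz) ⋙ Qh ⟶ Qh ⋙ RG ⋙ RH :=
  Functor.whiskerLeft (G.mapHomotopyCategory cz) β ≫ Functor.whiskerRight α RH

theorem isRightDerivedFunctor_comp (G : A ⥤ B) [G.Additive] (H : B ⥤ C) [H.Additive]
    {RG : DerivedCategory A ⥤ DerivedCategory B} (α : G.mapHomotopyCategory cz ⋙ Qh ⟶ Qh ⋙ RG)
    [RG.IsRightDerivedFunctor α (HomotopyCategory.quasiIso A cz)]
    {RH : DerivedCategory B ⥤ DerivedCategory C} (β : H.mapHomotopyCategory cz ⋙ Qh ⟶ Qh ⋙ RH)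
    [RH.IsRightDerivedFunctor β (HomotopyCategory.quasiIso B cz)]
    (hG : ∀ J : CochainComplex A ℤ, J.IsKInjective → CochainComplex.IsKInjective ((G.mapHomologicalComplex cz).obj J)) :
    (RG ⋙ RH).IsRightDerivedFunctor (compUnit G H α β) (HomotopyCategory.quasiIso A cz) :=
  Groth.L10.KInjDerived.isRightDerivedFunctor_of_isIso _ fun J hJ => by
    haveI := Groth.L10.KInjDerived.isIso_app_quotient α J
    haveI := hG J hJ
    haveI := Groth.L10.KInjDerived.isIso_app_quotient β ((G.mapHomologicalComplex cz).obj J)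
    haveI : IsIso (β.app ((G.mapHomotopyCategory cz).obj ((HomotopyCategory.quotient A cz).obj J))) :=
      Groth.L10.KInjDerived.isIso_app_quotient β ((G.mapHomologicalComplex cz).obj J)
    simp only [compUnit, NatTrans.comp_app, Functor.whiskerLeft_app, Functor.whiskerRight_app]
    infer_instance

/-- Derived functors of isomorphic composites agree if the inner functors preserve K-injectives. -/
theorem nonempty_iso_comp {G : A ⥤ B} [G.Additive] {H : B ⥤ C} [H.Additive]
    {G' : A ⥤ B'} [G'.Additive] {H' : B' ⥤ C} [H'.Additive] (e : G ⋙ H ≅ G' ⋙ H')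
    {RG : DerivedCategory A ⥤ DerivedCategory B} (α : G.mapHomotopyCategory cz ⋙ Qh ⟶ Qh ⋙ RG)
    [RG.IsRightDerivedFunctor α (HomotopyCategory.quasiIso A cz)]
    {RH : DerivedCategory B ⥤ DerivedCategory C} (β : H.mapHomotopyCategory cz ⋙ Qh ⟶ Qh ⋙ RH)
    [RH.IsRightDerivedFunctor β (HomotopyCategory.quasiIso B cz)]
    {RG' : DerivedCategory A ⥤ DerivedCategory B'} (α' : G'.mapHomotopyCategory cz ⋙ Qh ⟶ Qh ⋙ RG')
    [RG'.IsRightDerivedFunctor α' (HomotopyCategory.quasiIso A cz)]
    {RH' : DerivedCategory B' ⥤ DerivedCategory C} (β' : H'.mapHomotopyCategory cz ⋙ Qh ⟶ Qh ⋙ RH')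
    [RH'.IsRightDerivedFunctor β' (HomotopyCategory.quasiIso B' cz)]
    (hG : ∀ J : CochainComplex A ℤ, J.IsKInjective → CochainComplex.IsKInjective ((G.mapHomologicalComplex cz).obj J))
    (hG' : ∀ J : CochainComplex A ℤ, J.IsKInjective → CochainComplex.IsKInjective ((G'.mapHomologicalComplex cz).obj J)) :
    Nonempty (RG ⋙ RH ≅ RG' ⋙ RH') := by
  haveI := isRightDerivedFunctor_comp G H α β hG
  haveI : (RG' ⋙ RH').IsRightDerivedFunctor
      (Functor.whiskerRight (htpyCompIso e).hom Qh ≫ compUnit G' H' α' β') (HomotopyCategory.quasiIso A cz) :=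
    Groth.L10.KInjDerived.isRightDerivedFunctor_of_isIso _ fun J hJ => by
      haveI := isRightDerivedFunctor_comp G' H' α' β' hG'
      haveI := Groth.L10.KInjDerived.isIso_app_quotient (compUnit G' H' α' β') J
      simp only [NatTrans.comp_app, Functor.whiskerRight_app]
      infer_instance
  exact ⟨Functor.rightDerivedUnique (RG ⋙ RH) (RG' ⋙ RH') (compUnit G H α β)
    (Functor.whiskerRight (htpyCompIso e).hom Qh ≫ compUnit G' H' α' β') (HomotopyCategory.quasiIso A cz)⟩

end Groth.L17.DerQC
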