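import Groth.Agent.L17.ComplExt.DerGeneric
import Groth.Agent.L17.IndRpush.ColimUnbdd
import Groth.Agent.L29.BC.Localizing
import Groth.Agent.L10.DerivedAdj
import Groth.Prelude.Def_E1Deg

/-!
# The derived category of a subcategory with a compact generator coming from bounded objects
-/

set_option autoImplicit false
set_option linter.style.haveILetI false
set_option linter.unusedSectionVars false
set_option backward.defeqAttrib.useBackward true
set_option backward.isDefEq.respectTransparency false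
set_option backward.isDefEq.respectTransparency.types false

universe u

open CategoryTheory CategoryTheory.Limits CategoryTheory.Pretriangulated DerivedCategory

attribute [local instance] HasDerivedCategory.standard

noncomputable section

namespace Groth.L17.DerQC

open Groth.L10 Groth.L10.DevissageFF Groth.L29.Thick E1Deg

variable {A : Type (u + 1)} [Category.{u} A] [Abelian A]

theorem sigmaGEι_naturality {K L : CochainComplex A ℤ} (g : K ⟶ L) (i : ℤ) :
    HomologicalComplex.stupidTruncMap g (emb i) ≫ sigmaGEι L i = sigmaGEι K i ≫ g := by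
  ext m
  by_cases hm : ∃ k : ℕ, (emb i).f k = m
  · obtain ⟨k, hk⟩ := hm
    rw [HomologicalComplex.comp_f, HomologicalComplex.comp_f, sigmaGEι_f_eq L i hk, sigmaGEι_f_eq K i hk,
      HomologicalComplex.stupidTruncMap_stupidTruncXIso_hom]
  · exact (K.isZero_stupidTrunc_X (emb i) m (by simpa using hm)).eq_of_src _ _

/-- The stupid truncation of a complex without cohomology in high degrees is concentrated in one degree. -/
theorem isLE_sigmaGE (L : CochainComplex A ℤ) (a : ℤ) (h : (Q.obj L).IsLE (a - 1)) : (Q.obj (sigmaGE L a)).IsLE a := by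
  rw [DerivedCategory.isLE_iff]
  intro i hi
  have hiso : ∀ m, a ≤ m → IsIso ((sigmaGEι L a).f m) := fun m hm => by
    obtain ⟨k, hk⟩ : ∃ k : ℕ, (emb a).f k = m :=
      ⟨(m - a).toNat, by simp only [ComplexShape.embeddingUpIntGE_f]; omega⟩
    rw [sigmaGEι_f_eq L a hk]
    infer_instance
  haveI : QuasiIsoAt (sigmaGEι L a) i := by
    rw [quasiIsoAt_iff' _ (i - 1) i (i + 1) (by simp) (by simp)]
    haveI : Epi ((HomologicalComplex.shortComplexFunctor' A _ (i - 1) i (i + 1)).map (sigmaGEι L a)).τ₁ :=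
      haveI := hiso (i - 1) (by omega); inferInstanceAs (Epi ((sigmaGEι L a).f (i - 1)))
    haveI : IsIso ((HomologicalComplex.shortComplexFunctor' A _ (i - 1) i (i + 1)).map (sigmaGEι L a)).τ₂ :=
      hiso i (by omega)
    haveI : Mono ((HomologicalComplex.shortComplexFunctor' A _ (i - 1) i (i + 1)).map (sigmaGEι L a)).τ₃ :=
      haveI := hiso (i + 1) (by omega); inferInstanceAs (Mono ((sigmaGEι L a).f (i + 1)))
    exact ShortComplex.quasiIso_of_epi_of_isIso_of_mono _
  haveI : IsIso ((homologyFunctor A i).map (Q.map (sigmaGEι L a))) :=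
    (NatIso.isIso_map_iff (homologyFunctorFactors A i) _).2 ((quasiIsoAt_iff_isIso_homologyMap _ _).1 inferInstance)
  exact (DerivedCategory.isZero_of_isLE (Q.obj L) (a - 1) i (by omega)).of_iso
    (asIso ((homologyFunctor A i).map (Q.map (sigmaGEι L a))))

/-- Morphisms from bounded below objects into objects without cohomology in high degrees. -/
theorem eq_zero_of_isLE {P₀ L : DerivedCategory A} (a : ℤ) [P₀.IsGE a]
    (hv : ∀ (Z : A) (g : P₀ ⟶ (singleFunctor A a).obj Z), g = 0) (hL : L.IsLE (a - 1)) (g : P₀ ⟶ L) : g = 0 := by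
  obtain ⟨K, hK, ⟨e⟩⟩ := exists_iso_Q_obj_of_isGE P₀ a
  obtain ⟨M, ⟨e'⟩⟩ : ∃ M : CochainComplex A ℤ, Nonempty (L ≅ Q.obj M) :=
    ⟨Q.objPreimage L, ⟨(Q.objObjPreimageIso L).symm⟩⟩
  obtain ⟨M', f, s, hs, hfac⟩ := left_fac (e.inv ≫ g ≫ e'.hom)
  haveI := hs
  haveI := isIso_sigmaGEι K a fun m hm => CochainComplex.isZero_of_isStrictlyGE K a m hm
  have hM' : (Q.obj M').IsLE (a - 1) :=
    (DerivedCategory.isLE_iff _ _).2 fun i hi => (DerivedCategory.isZero_of_isLE L (a - 1) i hi).of_iso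
      ((homologyFunctor A i).mapIso (e' ≪≫ asIso (Q.map s)).symm)
  have hT := isLE_sigmaGE M' a hM'
  haveI : CochainComplex.IsStrictlyGE (sigmaGE M' a) a :=
    inferInstanceAs (HomologicalComplex.IsStrictlySupported _ (emb a))
  haveI : (Q.obj (sigmaGE M' a)).IsGE a := (DerivedCategory.isGE_Q_obj_iff _ _).2 inferInstance
  haveI := hT
  obtain ⟨Z, ⟨eZ⟩⟩ := exists_iso_singleFunctor_obj_of_isGE_of_isLE (Q.obj (sigmaGE M' a)) a
  let q : Q.obj K ⟶ Q.obj (sigmaGE M' a) :=
    Q.map (inv (sigmaGEι K a)) ≫ Q.map (HomologicalComplex.stupidTruncMap f (emb a))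
  have hq : q = 0 := by
    rw [← cancel_epi e.hom, ← cancel_mono eZ.hom, Category.assoc, comp_zero, zero_comp]
    exact hv Z _
  have hf : Q.map f = 0 := by
    have : q ≫ Q.map (sigmaGEι M' a) = Q.map f := by
      simp only [q, ← Functor.map_comp, Category.assoc, sigmaGEι_naturality, IsIso.inv_hom_id_assoc]
    rw [← this, hq, zero_comp]
  rw [← cancel_epi e.inv, ← cancel_mono e'.hom, Category.assoc, hfac, hf]
  simp

variable [IsGrothendieckAbelian.{u} A] {B : Type (u + 1)} [Category.{u} B] [Abelian B] [IsGrothendieckAbelian.{u} B]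
  (F : A ⥤ B) [F.Additive] [PreservesFiniteLimits F] [PreservesFiniteColimits F]

section Coprod

/-- Coproduct preserving exact functors give coproduct preserving functors of derived categories. -/
theorem preservesCoproduct (ι : Type u) [PreservesColimitsOfShape (Discrete ι) F] (K : ι → DerivedCategory A) :
    PreservesColimit (Discrete.functor K) F.mapDerivedCategory := by
  let C : ι → CochainComplex A ℤ := fun i => Q.objPreimage (K i)
  let e := fun i => Q.objObjPreimageIso (K i)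
  obtain ⟨h1⟩ := Groth.L17.IndRpush.ColimDer.isColimit_Q_cofan C
  let c : Cofan K := Cofan.mk (Q.obj (∐ C)) fun i => (e i).inv ≫ Q.map (Sigma.ι C i)
  have hc : IsColimit c := (IsColimit.precomposeHomEquiv (Discrete.natIso fun i => e i.as) _).1
    (h1.ofIsoColimit (Cocone.ext (Iso.refl _) fun i => by simp [c, e]))
  let Fc := F.mapHomologicalComplex (ComplexShape.up ℤ)
  let φ := F.mapDerivedCategoryFactors
  let C' : ι → CochainComplex B ℤ := fun i => Fc.obj (C i)
  haveI : PreservesColimit (Discrete.functor C) Fc := ⟨fun {cc} hcc => ⟨HomologicalComplex.isColimitOfEval _ _ fun n =>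
    ((isColimitOfPreserves F (isColimitOfPreserves (HomologicalComplex.eval A (ComplexShape.up ℤ) n) hcc)).ofIsoColimit
      (Cocone.ext (Iso.refl _) fun i => by simp [Fc]))⟩⟩
  let σ := asIso (sigmaComparison Fc C)
  obtain ⟨h2⟩ := Groth.L17.IndRpush.ColimDer.isColimit_Q_cofan C'
  refine preservesColimit_of_preserves_colimit_cocone hc ?_
  let ν : Discrete.functor K ⋙ F.mapDerivedCategory ≅ Discrete.functor (fun i => Q.obj (C' i)) :=
    Discrete.natIso fun i => F.mapDerivedCategory.mapIso (e i.as).symm ≪≫ φ.app (C i.as)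
  refine ((IsColimit.precomposeHomEquiv ν _).symm h2).ofIsoColimit
    (Cocone.ext (Q.mapIso σ ≪≫ (φ.app (∐ C)).symm) fun i => ?_)
  obtain ⟨i⟩ := i
  simp only [Cocone.precompose_obj_ι, NatTrans.comp_app, Cofan.mk_ι_app, ν, Discrete.natIso_hom_app,
    Functor.mapCocone_ι_app, Iso.trans_hom, Functor.mapIso_hom, Iso.symm_hom, Category.assoc, c, Functor.map_comp,
    σ, asIso_hom]
  congr 1
  rw [← Functor.map_comp_assoc, ι_comp_sigmaComparison, Iso.app_inv, Iso.app_hom,
    show Q.map (Fc.map (Sigma.ι C i)) ≫ φ.inv.app (∐ C) =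
      φ.inv.app (C i) ≫ F.mapDerivedCategory.map (Q.map (Sigma.ι C i)) from φ.inv.naturality (Sigma.ι C i)]
  exact φ.hom_inv_id_app_assoc _ _

end Coprod

variable [F.Faithful] [∀ ι : Type u, PreservesColimitsOfShape (Discrete ι) F]

theorem isZero_of_map {L : DerivedCategory A} (h : IsZero (F.mapDerivedCategory.obj L)) : IsZero L := by
  haveI hi' : IsIso (0 : L ⟶ L) := (DerivedCategory.isIso_iff _ _).2 fun i => by
    have hz : IsZero ((homologyFunctor A i).obj L) := by
      obtain ⟨e⟩ := WSerreLib.homology_map_iso F L i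
      have hz : IsZero (F.obj ((homologyFunctor A i).obj L)) := ((homologyFunctor B i).map_isZero h).of_iso e.symm
      rw [IsZero.iff_id_eq_zero]
      exact F.map_injective (hz.eq_of_src _ _)
    exact ⟨0, hz.eq_of_src _ _, hz.eq_of_tgt _ _⟩
  rw [IsZero.iff_id_eq_zero]
  exact (IsIso.inv_hom_id (0 : L ⟶ L)).symm.trans (by simp)

/-- Maps from a bounded below test object are computed in the ambient category. -/
theorem bijective_test {P₀ : DerivedCategory A} {a₀ : ℤ} (ha₀ : P₀.IsGE a₀)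
    (hP : ∀ (N : DerivedCategory A) (b : ℤ), N.IsGE b → Function.Bijective fun f : P₀ ⟶ N => F.mapDerivedCategory.map f)
    (c : ℤ)
    (hv : ∀ L : DerivedCategory A, L.IsLE c → ∀ g : F.mapDerivedCategory.obj P₀ ⟶ F.mapDerivedCategory.obj L, g = 0)
    (L : DerivedCategory A) : Function.Bijective fun φ : P₀ ⟶ L => F.mapDerivedCategory.map φ := by
  let a := min a₀ c
  haveI : P₀.IsGE a := TStructure.t.isGE_of_ge P₀ a a₀ (min_le_left _ _)
  have hA : ∀ L : DerivedCategory A, L.IsLE (a - 1) → ∀ g : P₀ ⟶ L, g = 0 := fun L hL g =>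
    eq_zero_of_isLE a (fun Z g => (hP _ a inferInstance).1
      ((hv _ (TStructure.t.isLE_of_le ((singleFunctor A a).obj Z) a c (min_le_right _ _)) _).trans
        (F.mapDerivedCategory.map_zero _ _).symm)) hL g
  have hB : ∀ L : DerivedCategory A, L.IsLE (a - 1) →
      ∀ g : F.mapDerivedCategory.obj P₀ ⟶ F.mapDerivedCategory.obj L, g = 0 := fun L hL g =>
    hv L (TStructure.t.isLE_of_le L (a - 1) c (by have := min_le_right a₀ c; omega)) g
  let D := (TStructure.t.triangleLTGE (a - 1)).obj L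
  have hD : D ∈ distTriang _ := TStructure.t.triangleLTGE_distinguished (a - 1) L
  have h₁ : D.obj₁.IsLE (a - 2) := TStructure.t.isLE_truncLT_obj L (a - 1) (a - 2) (by omega)
  have h₁' : D.obj₁.IsLE (a - 1) := TStructure.t.isLE_of_le D.obj₁ (a - 2) (a - 1) (by omega)
  have h₁s : (D.obj₁⟦(1 : ℤ)⟧).IsLE (a - 1) := by
    have : TStructure.t.IsLE (D.obj₁⟦(1 : ℤ)⟧) (a - 3) := TStructure.t.isLE_shift _ (a - 2) 1 (a - 3) (by omega)
    exact TStructure.t.isLE_of_le _ (a - 3) (a - 1) (by omega)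
  refine (Groth.L17.ComplExt.map_bijective_iff_of_comp F.mapDerivedCategory D.mor₂
    (Groth.L17.ComplExt.comp_mor₂_bijective D hD (hA _ h₁') (hA _ h₁s))
    (Groth.L17.ComplExt.comp_mor₂_bijective _ (F.mapDerivedCategory.map_distinguished D hD) (hB _ h₁') fun g => ?_)).2
      (hP D.obj₃ (a - 1) (inferInstanceAs (TStructure.t.IsGE _ _)))
  rw [← cancel_mono ((F.mapDerivedCategory.commShiftIso (1 : ℤ)).inv.app D.obj₁), zero_comp]
  exact hB _ h₁s _

variable (S : ObjectProperty (DerivedCategory B)) (hmem : ∀ L, S (F.mapDerivedCategory.obj L))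
  (hiso : ∀ {X Y : DerivedCategory B}, (X ≅ Y) → S X → S Y)
  (hthird : ∀ T : Triangle (DerivedCategory B), T ∈ distTriang _ → S T.obj₁ → S T.obj₂ → S T.obj₃)
  (hsum : ∀ {ι : Type u} (K : ι → DerivedCategory B) [HasCoproduct K], (∀ i, S (K i)) → S (∐ K))
  {P : DerivedCategory B} (hPS : ∀ n : ℤ, S (P⟦n⟧)) (hcpt : ∀ n : ℤ, Cpt.{u} S (P⟦n⟧))
  (hgen : ∀ L, S L → (∀ (n : ℤ) (φ : P⟦n⟧ ⟶ L), φ = 0) → IsZero L)
  (hvan : ∀ n : ℤ, ∃ c : ℤ, ∀ L, S L → L.IsLE c → ∀ g : P⟦n⟧ ⟶ L, g = 0)
  {P₀ : DerivedCategory A} {a₀ : ℤ} (ha₀ : P₀.IsGE a₀) (e₀ : F.mapDerivedCategory.obj P₀ ≅ P)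

include hmem hiso hthird hsum hPS hcpt hgen hvan ha₀ e₀ in
/-- The derived category of the subcategory is the part of the ambient one cut out by `S`; only maps out of shifts
of the test object are needed. -/
theorem full_faithful_essImage_of
    (hP : ∀ (n : ℤ) (N : DerivedCategory A) (b : ℤ), N.IsGE b →
      Function.Bijective fun f : P₀⟦n⟧ ⟶ N => F.mapDerivedCategory.map f) : F.mapDerivedCategory.Full ∧ F.mapDerivedCategory.Faithful ∧
    ∀ K : DerivedCategory B, S K ↔ ∃ M, Nonempty (F.mapDerivedCategory.obj M ≅ K) := by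
  classical
  haveI : LocallySmall.{u} (DerivedCategory A) :=
    ⟨fun _ _ => small_of_injective (f := (KInjDerived.equiv (A := A)).inverse.map)
      (KInjDerived.equiv (A := A)).inverse.map_injective⟩
  haveI : LocallySmall.{u} (DerivedCategory B) :=
    ⟨fun _ _ => small_of_injective (f := (KInjDerived.equiv (A := B)).inverse.map)
      (KInjDerived.equiv (A := B)).inverse.map_injective⟩
  haveI hcA : HasCoproducts.{u} (DerivedCategory A) := fun J => DerivedProd.hasCoproductsOfShape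
  haveI hcB : HasCoproducts.{u} (DerivedCategory B) := fun J => DerivedProd.hasCoproductsOfShape
  haveI : HasColimitsOfShape (Discrete ℕ) (DerivedCategory A) :=
    hasColimitsOfShape_of_equivalence (Discrete.equivalence (Equiv.ulift.{u} : ULift.{u} ℕ ≃ ℕ))
  haveI : HasColimitsOfShape (Discrete ℕ) (DerivedCategory B) :=
    hasColimitsOfShape_of_equivalence (Discrete.equivalence (Equiv.ulift.{u} : ULift.{u} ℕ ≃ ℕ))
  let G := F.mapDerivedCategory
  haveI : ∀ (ι : Type u) (K : ι → DerivedCategory A), PreservesColimit (Discrete.functor K) G :=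
    fun ι K => preservesCoproduct F ι K
  let en : ∀ n : ℤ, G.obj (P₀⟦n⟧) ≅ P⟦n⟧ := fun n => (G.commShiftIso n).app P₀ ≪≫ (shiftFunctor _ n).mapIso e₀
  have htest : ∀ (n : ℤ) (L : DerivedCategory A), Function.Bijective fun φ : P₀⟦n⟧ ⟶ L => G.map φ := fun n L => by
    obtain ⟨c, hc⟩ := hvan n
    refine bijective_test F (TStructure.t.isGE_shift P₀ a₀ n (a₀ - n) (by omega)) (hP n) c (fun L hL g => ?_) L
    rw [← cancel_epi (en n).inv, comp_zero]
    exact hc _ (hmem L) (haveI := hL; DerivedAdj.isLE_map (w := F) L c) _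
  have hgenA : ∀ L : DerivedCategory A, (⊤ : ObjectProperty (DerivedCategory A)) L →
      (∀ (n : ℤ) (φ : P₀⟦n⟧ ⟶ L), φ = 0) → IsZero L := fun L _ h => by
    refine isZero_of_map F (hgen _ (hmem L) fun n φ => ?_)
    obtain ⟨ψ, hψ⟩ := (htest n L).2 ((en n).hom ≫ φ)
    rw [← cancel_epi (en n).hom, comp_zero, ← hψ, h n ψ]
    exact G.map_zero _ _
  have hcptA : ∀ n : ℤ, Cpt.{u} (⊤ : ObjectProperty (DerivedCategory A)) (P₀⟦n⟧) := fun n {ι} X _ _ f => by
    let cm := sigmaComparison G X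
    obtain ⟨s, g, hg⟩ := hcpt n (fun i => G.obj (X i)) (fun i => hmem _) ((en n).inv ≫ G.map f ≫ inv cm)
    choose g' hg' using fun i => (htest n (X i)).2 ((en n).hom ≫ g i)
    refine ⟨s, g', (htest n _).1 ?_⟩
    have h1 : G.map f = (en n).hom ≫ (∑ i ∈ s, g i ≫ Sigma.ι (fun i => G.obj (X i)) i) ≫ cm := by
      rw [← hg]; simp
    show G.map f = G.map (∑ i ∈ s, g' i ≫ Sigma.ι X i)
    rw [h1, Preadditive.sum_comp, Preadditive.comp_sum, Functor.map_sum]
    refine Finset.sum_congr rfl fun i _ => ?_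
    rw [Functor.map_comp, show G.map (g' i) = (en n).hom ≫ g i from hg' i, Category.assoc, Category.assoc,
      ι_comp_sigmaComparison]
  have hff : ∀ K L : DerivedCategory A, Function.Bijective fun φ : K ⟶ L => G.map φ := fun K L => by
    suffices h : HomBij G K L from bij_iso_right G ((shiftFunctorZero _ ℤ).app L) (h 0)
    exact Groth.L29.BC.localizing_top (G := P₀) (fun E => HomBij G E L) ⊤
      (fun e h => homBij_iso_left G e h) (fun n m => htest n _)
      (fun {ι} X _ h n => by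
        refine ⟨fun x y hxy => Sigma.hom_ext _ _ fun i => (h i n).1 ?_, fun ψ => ?_⟩
        · exact (G.map_comp _ _).trans ((congrArg (G.map (Sigma.ι X i) ≫ ·) hxy).trans (G.map_comp _ _).symm)
        · choose φ hφ using fun i => (h i n).2 (G.map (Sigma.ι X i) ≫ ψ)
          refine ⟨Sigma.desc φ, Cofan.IsColimit.hom_ext (isColimitOfHasCoproductOfPreservesColimit G X) _ _ fun i => ?_⟩
          refine Eq.trans ?_ (hφ i)
          show G.map (Sigma.ι X i) ≫ G.map (Sigma.desc φ) = _
          rw [← G.map_comp, Sigma.ι_desc])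
      (fun T hT _ _ h₁ h₂ => homBij_ext_left G _ (rot_of_distTriang T hT) h₂ (homBij_shift_left G 1 h₁))
      (fun _ => trivial) (fun _ _ => trivial) (fun _ _ => trivial) (fun _ _ _ _ => trivial) hcptA hgenA trivial
  haveI hfull : G.Full := ⟨fun {X Y} f => (hff X Y).2 f⟩
  haveI hfaith : G.Faithful := ⟨fun {X Y} _ _ h => (hff X Y).1 h⟩
  refine ⟨hfull, hfaith, fun K => ⟨fun hK => ?_, fun ⟨M, ⟨e⟩⟩ => hiso e (hmem M)⟩⟩
  refine Groth.L29.BC.localizing_top (G := P) (fun E => ∃ M, Nonempty (G.obj M ≅ E)) S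
    (fun e ⟨M, ⟨e'⟩⟩ => ⟨M, ⟨e' ≪≫ e⟩⟩) (fun n => ⟨_, ⟨en n⟩⟩) (fun {ι} X _ h => ?_) (fun T hT _ _ h₁ h₂ => ?_)
    hPS (fun {ι} X h => hsum X h) (fun X h => ?_) hthird hcpt hgen hK
  · choose M hM using h
    exact ⟨∐ M, ⟨(asIso (sigmaComparison G M)).symm ≪≫ Sigma.mapIso fun i => (hM i).some⟩⟩
  · obtain ⟨M₁, ⟨e₁⟩⟩ := h₁
    obtain ⟨M₂, ⟨e₂⟩⟩ := h₂
    obtain ⟨f, hf⟩ := G.map_surjective (e₁.hom ≫ T.mor₁ ≫ e₂.inv)
    obtain ⟨Z, g, h, hZ⟩ := distinguished_cocone_triangle f
    exact ⟨Z, ⟨Triangle.π₃.mapIso (isoTriangleOfIso₁₂ _ _ (G.map_distinguished _ hZ) hT e₁ e₂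
      (by simp [hf]))⟩⟩
  · refine hiso ?_ (hsum (fun n : ULift.{u} ℕ => X n.down) fun n => h n.down)
    exact Sigma.whiskerEquiv (f := fun n : ULift.{u} ℕ => X n.down) (g := X) Equiv.ulift.{u} fun n => Iso.refl _

include hmem hiso hthird hsum hPS hcpt hgen hvan ha₀ e₀ in
/-- The derived category of the subcategory is the part of the ambient one cut out by `S`. -/
theorem full_faithful_essImage (hplus : ∀ (M N : DerivedCategory A) (a b : ℤ), M.IsGE a → N.IsGE b →
      Function.Bijective fun f : M ⟶ N => F.mapDerivedCategory.map f) :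
    F.mapDerivedCategory.Full ∧ F.mapDerivedCategory.Faithful ∧
    ∀ K : DerivedCategory B, S K ↔ ∃ M, Nonempty (F.mapDerivedCategory.obj M ≅ K) :=
  full_faithful_essImage_of F S hmem hiso hthird hsum hPS hcpt hgen hvan ha₀ e₀ fun n N b hN =>
    hplus _ N (a₀ - n) b (TStructure.t.isGE_shift P₀ a₀ n (a₀ - n) (by omega)) hN

end Groth.L17.DerQC
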