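import Groth.Agent.L10.KInjTransfer
import Groth.Agent.L10.KInjDerived
import Mathlib.Algebra.Homology.DerivedCategory.ExactFunctor
import Mathlib.Algebra.Homology.HomotopyCategory.KInjective

/-!
# Right derived functors along exact functors
-/

set_option autoImplicit false
set_option linter.style.haveILetI false
set_option linter.unusedSectionVars false
set_option backward.defeqAttrib.useBackward true
set_option backward.isDefEq.respectTransparency false
set_option backward.isDefEq.respectTransparency.types false

universe w₁ w₂ w₃ w₄ v₁ v₂ v₃ v₄ u₁ u₂ u₃ u₄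

open CategoryTheory CategoryTheory.Limits DerivedCategory

noncomputable section

namespace Groth.L17.DerQC

variable {A : Type u₁} [Category.{v₁} A] [Abelian A] [HasDerivedCategory.{w₁} A]
  {B : Type u₂} [Category.{v₂} B] [Abelian B] [HasDerivedCategory.{w₂} B]
  {A' : Type u₃} [Category.{v₃} A'] [Abelian A'] [HasDerivedCategory.{w₃} A']
  {B' : Type u₄} [Category.{v₄} B'] [Abelian B'] [HasDerivedCategory.{w₄} B']
  {I : A ⥤ B} [I.Additive] [PreservesFiniteLimits I] [PreservesFiniteColimits I]
  {I' : A' ⥤ B'} [I'.Additive] [PreservesFiniteLimits I'] [PreservesFiniteColimits I']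
  {P : A ⥤ A'} [P.Additive] {F : B ⥤ B'} [F.Additive] (e : P ⋙ I' ≅ I ⋙ F)

local notation "cz" => ComplexShape.up ℤ

/-- The square on homotopy categories. -/
def htpySquare : P.mapHomotopyCategory cz ⋙ I'.mapHomotopyCategory cz ≅
    I.mapHomotopyCategory cz ⋙ F.mapHomotopyCategory cz :=
  NatIso.ofComponents (fun K => (HomotopyCategory.quotient B' cz).mapIso
      (HomologicalComplex.Hom.isoOfComponents (fun i => e.app (K.as.X i))
        fun i j _ => (e.hom.naturality (K.as.d i j)).symm))
    fun {K L} f => by
      obtain ⟨f, rfl⟩ := (HomotopyCategory.quotient A cz).map_surjective f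
      exact ((HomotopyCategory.quotient B' cz).map_comp _ _).symm.trans
        ((congrArg _ (HomologicalComplex.hom_ext _ _ fun i => e.hom.naturality (f.f i))).trans
          ((HomotopyCategory.quotient B' cz).map_comp _ _))

variable [Groth.L10.KInjDerived.EnoughKInjectives A] [IsGrothendieckAbelian.{v₁} A]
  {RP : DerivedCategory A ⥤ DerivedCategory A'} (α : P.mapHomotopyCategory cz ⋙ Qh ⟶ Qh ⋙ RP)
  [RP.IsRightDerivedFunctor α (HomotopyCategory.quasiIso A cz)]
  {RF : DerivedCategory B ⥤ DerivedCategory B'} (β : F.mapHomotopyCategory cz ⋙ Qh ⟶ Qh ⋙ RF)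

include e α β in
/-- Derived functors commute with exact functors when `F` is computed by images of injective complexes. -/
theorem nonempty_iso_square (hF : ∀ J : CochainComplex A ℤ, J.IsKInjective → (∀ n, Injective (J.X n)) →
      IsIso (β.app ((HomotopyCategory.quotient B cz).obj ((I.mapHomologicalComplex cz).obj J)))) :
    Nonempty (RP ⋙ I'.mapDerivedCategory ≅ I.mapDerivedCategory ⋙ RF) := by
  let H0 := P.mapHomotopyCategory cz ⋙ I'.mapHomotopyCategory cz ⋙ (Qh : _ ⥤ DerivedCategory B')
  let α₁ : H0 ⟶ Qh ⋙ RP ⋙ I'.mapDerivedCategory :=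
    Functor.whiskerLeft (P.mapHomotopyCategory cz) I'.mapDerivedCategoryFactorsh.inv ≫
      Functor.whiskerRight α I'.mapDerivedCategory
  let α₂ : H0 ⟶ Qh ⋙ I.mapDerivedCategory ⋙ RF :=
    Functor.whiskerRight (htpySquare e).hom Qh ≫ Functor.whiskerLeft (I.mapHomotopyCategory cz) β ≫
      Functor.whiskerRight I.mapDerivedCategoryFactorsh.inv RF
  haveI : (RP ⋙ I'.mapDerivedCategory).IsRightDerivedFunctor α₁ (HomotopyCategory.quasiIso A cz) :=
    Groth.L10.KInjDerived.isRightDerivedFunctor_of_isIso α₁ fun J hJ => by
      haveI := Groth.L10.KInjDerived.isIso_app_quotient α J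
      simp only [α₁, NatTrans.comp_app, Functor.whiskerLeft_app, Functor.whiskerRight_app]
      infer_instance
  haveI : (I.mapDerivedCategory ⋙ RF).IsRightDerivedFunctor α₂ (HomotopyCategory.quasiIso A cz) :=
    Groth.L10.KInjDerived.isRightDerivedFunctor_of_isIso α₂ fun J hJ => by
      obtain ⟨J', r, hJ', hr, hinj⟩ := Groth.L10.KInjTransfer.exists_resolution.{v₁} J
      haveI : IsIso ((HomotopyCategory.quotient A cz).map r) :=
        isIso_of_yoneda_map_bijective _ fun T =>
          ⟨fun a b h => (CochainComplex.IsKInjective.Qh_map_bijective T J).injective (by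
              haveI : IsIso (Qh.map ((HomotopyCategory.quotient A cz).map r)) :=
                Localization.inverts Qh (HomotopyCategory.quasiIso A cz) _
                  ((HomotopyCategory.quotient_map_mem_quasiIso_iff _).2 ((HomologicalComplex.mem_quasiIso_iff _).2 hr))
              rw [← cancel_mono (Qh.map ((HomotopyCategory.quotient A cz).map r)), ← Functor.map_comp,
                ← Functor.map_comp]
              exact congrArg _ h),
            fun t => by
              haveI : IsIso (Qh.map ((HomotopyCategory.quotient A cz).map r)) :=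
                Localization.inverts Qh (HomotopyCategory.quasiIso A cz) _
                  ((HomotopyCategory.quotient_map_mem_quasiIso_iff _).2 ((HomologicalComplex.mem_quasiIso_iff _).2 hr))
              obtain ⟨s, hs⟩ := (CochainComplex.IsKInjective.Qh_map_bijective T J).surjective
                (Qh.map t ≫ inv (Qh.map ((HomotopyCategory.quotient A cz).map r)))
              refine ⟨s, (CochainComplex.IsKInjective.Qh_map_bijective T J').injective ?_⟩
              rw [Functor.map_comp, hs, Category.assoc, IsIso.inv_hom_id, Category.comp_id]⟩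
      refine (NatTrans.isIso_app_iff_of_iso α₂ (asIso ((HomotopyCategory.quotient A cz).map r))).2 ?_
      haveI : IsIso (β.app ((I.mapHomotopyCategory cz).obj ((HomotopyCategory.quotient A cz).obj J'))) :=
        hF J' hJ' hinj
      simp only [α₂, NatTrans.comp_app, Functor.whiskerLeft_app, Functor.whiskerRight_app]
      infer_instance
  exact ⟨Functor.rightDerivedUnique (RP ⋙ I'.mapDerivedCategory) (I.mapDerivedCategory ⋙ RF) α₁ α₂
    (HomotopyCategory.quasiIso A cz)⟩

end Groth.L17.DerQC
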